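import Mathlib.RingTheory.Smooth.Field
import Mathlib.RingTheory.Extension.Cotangent.Basis
import Mathlib.FieldTheory.IntermediateField.Adjoin.Basic

/-!
# Every field extension of a perfect field is formally smooth

Mathlib has this for essentially finite type extensions; the general case follows because `H¹` of the
cotangent complex only sees finitely many elements at a time.
-/

set_option autoImplicit false
universe u v

namespace Groth.Agent.PerfectFieldLib

open Algebra MvPolynomial KaehlerDifferential

theorem formallySmooth_of_perfectField (K : Type u) (L : Type v) [Field K] [PerfectField K]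
    [Field L] [Algebra K L] : Algebra.FormallySmooth K L := by
  have : Module.Projective L Ω[L⁄K] := inferInstance
  refine (Algebra.formallySmooth_iff K L).2 ⟨this, ?_⟩
  have : Algebra.FormallySmooth K (Generators.self K L).toExtension.Ring :=
    (inferInstance : Algebra.FormallySmooth K (MvPolynomial _ K))
  rw [← (Generators.self K L).toExtension.cotangentComplex_injective_iff, injective_iff_map_eq_zero]
  intro x hx
  obtain ⟨⟨f, hf⟩, rfl⟩ := Extension.Cotangent.mk_surjective x
  let E := IntermediateField.adjoin K ((MvPolynomial.vars (f : MvPolynomial L K)) : Set L)
  have hsub : ((MvPolynomial.vars (f : MvPolynomial L K)) : Set L) ⊆ Set.range E.val := fun a ha =>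
    ⟨⟨a, IntermediateField.subset_adjoin K _ ha⟩, rfl⟩
  obtain ⟨g, hg⟩ := exists_rename_eq_of_vars_subset_range (f : MvPolynomial L K) E.val E.val.injective hsub
  have : Algebra.EssFiniteType K E :=
    IntermediateField.essFiniteType_iff.2 (IntermediateField.fg_adjoin_finset _)
  have : Algebra.FormallySmooth K (Generators.self K E).toExtension.Ring :=
    (inferInstance : Algebra.FormallySmooth K (MvPolynomial _ K))
  have hinj : Function.Injective (Generators.self K E).toExtension.cotangentComplex :=
    (Generators.self K E).toExtension.cotangentComplex_injective_iff.2 inferInstance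
  have haev : ∀ h : MvPolynomial E K, aeval (id : L → L) (rename E.val h) = E.val (aeval (id : E → E) h) := by
    intro h
    rw [aeval_rename, comp_aeval_apply]
    rfl
  have hgker : g ∈ (Generators.self K E).toExtension.ker := by
    show aeval (id : E → E) g = 0
    refine E.val.injective (((haev g).symm.trans ?_).trans (map_zero E.val).symm)
    rw [hg]
    exact hf
  have hz : Extension.Cotangent.mk (P := (Generators.self K E).toExtension) ⟨g, hgker⟩ = 0 := by
    apply hinj
    rw [map_zero, Extension.cotangentComplex_mk]
    apply (Generators.self K E).cotangentSpaceBasis.repr.injective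
    rw [map_zero]
    refine Finsupp.ext fun e => ?_
    rw [Finsupp.zero_apply]
    refine ((Generators.self K E).cotangentSpaceBasis_repr_one_tmul g e).trans ?_
    refine E.val.injective (((haev (pderiv e g)).symm.trans ?_).trans (map_zero E.val).symm)
    rw [← pderiv_rename (f := E.val) E.val.injective, hg]
    have := congrArg (fun z => (Generators.self K L).cotangentSpaceBasis.repr z (E.val e)) hx
    rw [Extension.cotangentComplex_mk] at this
    simp only [map_zero, Finsupp.zero_apply] at this
    exact ((Generators.self K L).cotangentSpaceBasis_repr_one_tmul f (E.val e)).symm.trans this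
  rw [Extension.Cotangent.mk_eq_zero_iff] at hz ⊢
  show (f : MvPolynomial L K) ∈ _
  rw [← hg]
  have hle : (Generators.self K E).toExtension.ker ≤
      Ideal.comap (rename E.val : MvPolynomial E K →ₐ[K] MvPolynomial L K) (Generators.self K L).toExtension.ker := by
    intro h hh
    exact (haev h).trans ((congrArg E.val hh).trans (map_zero _))
  exact Ideal.le_comap_pow _ 2 (Ideal.pow_right_mono hle 2 hz)

end Groth.Agent.PerfectFieldLib
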